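import Cfsg.Agent.Lib.KnownC.TitsTwoTrans.General
import Cfsg.Agent.Lib.Schur.TailsSLP
import Cfsg.Agent.Lib.Sporadic.OutCert.Closure

/-!
# A checker for subgroups of prime exponent with conjugate cyclic subgroups, on permutations given by numbers
-/

set_option autoImplicit false

namespace CfsgLib.KnownC.TitsTwoTrans

open CfsgLib.Sporadic.OutCert CfsgLib.Schur

variable (w N : ℕ)

/-- The number of an element of the subgroup. -/
noncomputable def elK (kk : List ℕ) (ws : List (List ℕ)) (i : ℕ) : ℕ :=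
  Tails.prodK w N kk (ws.getD i [])

/-- A power. -/
noncomputable def powK (n k : ℕ) : ℕ :=
  Nat.rec (oneK w N) (fun _ ih => compK w N n ih) k

/-- The elements form a subgroup. -/
noncomputable def chkGrp (n : ℕ) (kk : List ℕ) (ng : ℕ) (ws stp : List (List ℕ)) : Bool :=
  decide ((List.range n).map (elK w N kk ws) |>.Nodup) &&
  Nat.beq (elK w N kk ws 0) (oneK w N) &&
  ((List.range ng).all fun k => (List.range n).all fun i =>
    Nat.blt ((stp.getD k []).getD i n) n &&
      Nat.beq (compK w N (kk.getD k (oneK w N)) (elK w N kk ws i)) (elK w N kk ws ((stp.getD k []).getD i n)))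

/-- Some elements are conjugate to the first one, up to powers. -/
noncomputable def chkConj (p : ℕ) (kk : List ℕ) (tab : List ℕ) (ws : List (List ℕ))
    (cj : List (ℕ × ℕ × List ℕ × List ℕ)) (iv : List (ℕ × ℕ)) : Bool :=
  (List.range cj.length).all fun c =>
    let e := cj.getD c (0, 0, [], [])
    let g1 := Tails.prodK w N tab e.2.2.1
    let g2 := Tails.prodK w N tab e.2.2.2
    decide (Nat.Coprime e.2.1 p) &&
      Nat.beq (powK w N (elK w N kk ws e.1) p) (oneK w N) &&
      validK w N g1 (iv.getD c (0, 0)).1 && validK w N g2 (iv.getD c (0, 0)).2 &&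
      Nat.beq (conjK w N g1 (iv.getD c (0, 0)).1 (elK w N kk ws 1))
        (conjK w N g2 (iv.getD c (0, 0)).2 (powK w N (elK w N kk ws e.1) e.2.1))

/-- All elements are powers of those. -/
noncomputable def chkInfo (p n : ℕ) (kk : List ℕ) (ws : List (List ℕ)) (inf : List (ℕ × ℕ))
    (cj : List (ℕ × ℕ × List ℕ × List ℕ)) : Bool :=
  (List.range n).all fun a => Nat.beq a 0 ||
    (let q := inf.getD a (0, 0)
     Nat.blt q.1 cj.length && Nat.beq (powK w N (elK w N kk ws a) p) (oneK w N) &&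
       Nat.beq (powK w N (elK w N kk ws (cj.getD q.1 (0, 0, [], [])).1) q.2) (elK w N kk ws a))

variable {w N} {Q : Type} [Group Q] (ψ : Q →* Equiv.Perm (Fin N)) (hw : N ≤ 2 ^ w)

include hw in
theorem rep_prod {tab : List ℕ} {g : ℕ → Q} (hg : ∀ i, Rep w N (tab.getD i (oneK w N)) (ψ (g i)))
    (l : List ℕ) : Rep w N (Tails.prodK w N tab l) (ψ (l.map g).prod) := by
  induction l with
  | nil => simpa [Tails.prodK] using rep_one (w := w) hw
  | cons i l ih =>
    rw [List.map_cons, List.prod_cons, map_mul]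
    exact rep_comp hw (hg i) ih

include hw in
theorem rep_pow {n : ℕ} {q : Q} (h : Rep w N n (ψ q)) (k : ℕ) : Rep w N (powK w N n k) (ψ (q ^ k)) := by
  induction k with
  | zero => simpa [powK] using rep_one (w := w) hw
  | succ k ih =>
    rw [pow_succ', map_mul]
    exact rep_comp hw h ih

include hw in
theorem uniform_of_chk [Finite Q] (hψ : Function.Injective ψ) {p n : ℕ} [Fact p.Prime]
    {kk tab : List ℕ} {ng : ℕ} {ws stp : List (List ℕ)} {inf : List (ℕ × ℕ)}
    {cj : List (ℕ × ℕ × List ℕ × List ℕ)} {iv : List (ℕ × ℕ)}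
    (hkk : ∀ i, ∃ q : Q, Rep w N (kk.getD i (oneK w N)) (ψ q))
    (htab : ∀ i, ∃ q : Q, Rep w N (tab.getD i (oneK w N)) (ψ q))
    (hlet : ∀ i < n, ∀ x ∈ ws.getD i [], x < ng) (hn : 1 < n)
    (h1 : chkGrp w N n kk ng ws stp = true) (h2 : chkConj w N p kk tab ws cj iv = true)
    (h3 : chkInfo w N p n kk ws inf cj = true) : Uniform Q p n := by
  classical
  haveI : Fintype Q := Fintype.ofFinite Q
  simp only [chkGrp, Bool.and_eq_true, decide_eq_true_eq, List.all_eq_true, List.mem_range, Nat.blt_eq,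
    Nat.beq_eq] at h1
  simp only [chkConj, Bool.and_eq_true, decide_eq_true_eq, List.all_eq_true, List.mem_range,
    Nat.beq_eq] at h2
  simp only [chkInfo, Bool.and_eq_true, List.all_eq_true, List.mem_range, Nat.blt_eq, Nat.beq_eq,
    Bool.or_eq_true] at h3
  obtain ⟨⟨hnd, h0⟩, hstep⟩ := h1
  choose y hy using hkk
  choose g hg using htab
  let el : ℕ → Q := fun i => ((ws.getD i []).map y).prod
  have hel : ∀ i, Rep w N (elK w N kk ws i) (ψ (el i)) := fun i => rep_prod ψ hw hy _
  have eq_of_rep : ∀ {m : ℕ} {a b : Q}, Rep w N m (ψ a) → Rep w N m (ψ b) → a = b :=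
    fun ha hb => hψ (ha.inj hb)
  have hone' : Rep w N (oneK w N) (ψ 1) := by rw [map_one]; exact rep_one hw
  have hone : el 0 = 1 := eq_of_rep (hel 0) (by rw [h0]; exact hone')
  let P : Subgroup Q := Subgroup.closure (y '' {k | k < ng})
  have hmem : ∀ q ∈ P, ∃ i < n, el i = q := by
    intro q hq
    rw [← Subgroup.mem_toSubmonoid, Subgroup.closure_toSubmonoid_of_finite] at hq
    induction hq using Submonoid.closure_induction_left with
    | one => exact ⟨0, by omega, hone⟩
    | mul_left a ha b _ ih =>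
      obtain ⟨k, hk, rfl⟩ := ha
      obtain ⟨i, hi, rfl⟩ := ih
      obtain ⟨hlt, he⟩ := hstep k hk i hi
      refine ⟨_, hlt, eq_of_rep (hel _) ?_⟩
      rw [← he, map_mul]
      exact rep_comp hw (hy k) (hel i)
  have hin : ∀ i < n, el i ∈ P := by
    intro i hi
    refine Subgroup.list_prod_mem _ fun z hz => ?_
    obtain ⟨x, hx, rfl⟩ := List.mem_map.1 hz
    exact Subgroup.subset_closure ⟨x, hlet i hi x hx, rfl⟩
  have hcanon : ∀ i, elK w N kk ws i = key w (ψ (el i)) := by
    intro i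
    show Tails.prodK w N kk (ws.getD i []) = key w (ψ ((ws.getD i []).map y).prod)
    cases hl : ws.getD i [] with
    | nil => simpa [Tails.prodK] using key_one
    | cons x l =>
      rw [List.map_cons, List.prod_cons, map_mul]
      exact key_comp (hy x) (rep_prod ψ hw hy l)
  have hinj : ∀ i < n, ∀ j < n, el i = el j → i = j := by
    intro i hi j hj e
    refine List.inj_on_of_nodup_map hnd (List.mem_range.2 hi) (List.mem_range.2 hj) ?_
    rw [hcanon, hcanon, e]
  refine ⟨P, el 1, ?_, hin 1 hn, ?_, ?_⟩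
  · intro e
    exact absurd (hinj 1 hn 0 (by omega) (e.trans hone.symm)) (by norm_num)
  · have e : (Finset.range n).image el = Finset.univ.filter (fun q => q ∈ P) := by
      ext q
      simp only [Finset.mem_image, Finset.mem_range, Finset.mem_filter, Finset.mem_univ, true_and]
      exact ⟨fun ⟨i, hi, e⟩ => e ▸ hin i hi, fun hq => hmem q hq⟩
    rw [Nat.card_eq_fintype_card, Fintype.card_subtype, ← e, Finset.card_image_of_injOn, Finset.card_range]
    intro i hi j hj
    exact hinj i (Finset.mem_range.1 hi) j (Finset.mem_range.1 hj)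
  · intro q hq hq1
    obtain ⟨a, ha, rfl⟩ := hmem q hq
    rcases h3 a ha with rfl | ⟨⟨hc, hp⟩, hpow⟩
    · exact absurd hone hq1
    have hap : el a ^ p = 1 := eq_of_rep (rep_pow ψ hw (hel a) p) (by rw [hp]; exact hone')
    refine ⟨orderOf_eq_prime hap hq1, ?_⟩
    obtain ⟨⟨⟨⟨hcop, hmp⟩, v1⟩, v2⟩, hcj⟩ := h2 _ hc
    set e := cj.getD (inf.getD a (0, 0)).1 (0, 0, [], []) with he
    set q1 := (e.2.2.1.map g).prod
    set q2 := (e.2.2.2.map g).prod
    set m := el e.1
    have r1 : Rep w N (iv.getD (inf.getD a (0, 0)).1 (0, 0)).1 ((ψ q1)⁻¹) := by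
      have h' := rep_permOf_inv v1
      rwa [(rep_permOf v1).inj (rep_prod ψ hw hg _)] at h'
    have r2 : Rep w N (iv.getD (inf.getD a (0, 0)).1 (0, 0)).2 ((ψ q2)⁻¹) := by
      have h' := rep_permOf_inv v2
      rwa [(rep_permOf v2).inj (rep_prod ψ hw hg _)] at h'
    have heq : q1 * el 1 * q1⁻¹ = q2 * m ^ e.2.1 * q2⁻¹ := by
      refine hψ ?_
      simp only [map_mul, map_inv]
      refine (rep_conj hw (rep_prod ψ hw hg _) r1 (hel 1)).inj ?_
      rw [hcj]
      exact rep_conj hw (rep_prod ψ hw hg _) r2 (rep_pow ψ hw (hel e.1) _)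
    have hma : m ^ (inf.getD a (0, 0)).2 = el a :=
      eq_of_rep (rep_pow ψ hw (hel _) _) (by rw [hpow]; exact hel a)
    refine ⟨q1⁻¹ * q2, ?_⟩
    have hm1 : m ^ p = 1 := eq_of_rep (rep_pow ψ hw (hel e.1) p) (by rw [hmp]; exact hone')
    have hcj' : (q1⁻¹ * q2) * m ^ e.2.1 * (q1⁻¹ * q2)⁻¹ = el 1 := by
      rw [show (q1⁻¹ * q2) * m ^ e.2.1 * (q1⁻¹ * q2)⁻¹ = q1⁻¹ * (q2 * m ^ e.2.1 * q2⁻¹) * q1 by group, ← heq]
      group
    obtain ⟨t, ht⟩ := exists_pow_eq_self_of_coprime
      (Nat.Coprime.coprime_dvd_right (orderOf_dvd_of_pow_eq_one hm1) hcop)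
    rw [← hma, ← ht, ← pow_mul, ← conj_pow, hcj']
    exact Subgroup.npow_mem_zpowers _ _

end CfsgLib.KnownC.TitsTwoTrans
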