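import Cfsg.Agent.Lib.KnownC.TitsTwoTrans.Data
import Cfsg.Agent.Lib.KnownC.TitsTwoTrans.Chk
import Cfsg.Agent.Lib.Schur.Tits.Main

/-!
# The two uniform Sylow subgroups of the Tits group
-/

set_option autoImplicit false
set_option maxRecDepth 100000
set_option maxHeartbeats 0
set_option Elab.async false

namespace CfsgLib.KnownC.TitsTwoTrans

open CfsgLib.Sporadic.OutCert CfsgLib.Schur
open CfsgLib.Schur.Sporadic.Tits (T hw psi psi_injective kk3 kk5 slpTab5)

theorem grp3 : chkGrp 11 1755 27 kk3 3 words3 step3 = true := by decide +kernel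

theorem conj3_ok : chkConj 11 1755 3 kk3 slpTab5 words3 conj3 inv3 = true := by decide +kernel

theorem info3_ok : chkInfo 11 1755 3 27 kk3 words3 info3 conj3 = true := by decide +kernel

theorem grp5 : chkGrp 11 1755 25 kk5 2 words5 step5 = true := by decide +kernel

theorem conj5_ok : chkConj 11 1755 5 kk5 slpTab5 words5 conj5 inv5 = true := by decide +kernel

theorem info5_ok : chkInfo 11 1755 5 25 kk5 words5 info5 conj5 = true := by decide +kernel

attribute [local irreducible] lk pkF allF compK conjK slpTab5 kk3 kk5 inv3 inv5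

theorem uniform3 : Uniform T 3 27 := by
  haveI : Fact (Nat.Prime 3) := ⟨Nat.prime_three⟩
  refine uniform_of_chk psi hw psi_injective (fun i => Tails.exists_pick psi hw
    (Tails.exists_slp psi hw (Sporadic.Tits.base_mem Sporadic.Tits.slp3_ok.2) Sporadic.Tits.slp3_ok.1)
    Sporadic.Tits.pick3_ok.1 i)
    (Tails.exists_slp psi hw (Sporadic.Tits.base_mem Sporadic.Tits.slp5_ok.2) Sporadic.Tits.slp5_ok.1)
    ?_ (by norm_num) grp3 conj3_ok info3_ok
  decide +kernel

theorem uniform5 : Uniform T 5 25 := by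
  haveI : Fact (Nat.Prime 5) := ⟨by norm_num⟩
  refine uniform_of_chk psi hw psi_injective (fun i => Tails.exists_pick psi hw
    (Tails.exists_slp psi hw (Sporadic.Tits.base_mem Sporadic.Tits.slp5_ok.2) Sporadic.Tits.slp5_ok.1)
    Sporadic.Tits.pick5_ok.1 i)
    (Tails.exists_slp psi hw (Sporadic.Tits.base_mem Sporadic.Tits.slp5_ok.2) Sporadic.Tits.slp5_ok.1)
    ?_ (by norm_num) grp5 conj5_ok info5_ok
  decide +kernel

theorem facts : Facts T :=
  ⟨Sporadic.Tits.card_T, uniform3, uniform5⟩

theorem facts_tits : Facts Cfsg.Lie.TitsGroup := by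
  have h := CfsgLib.Chevalley.Twist.F4.transfer CfsgLib.Chevalley.TitsGroup.hK2
    (fun _ G => Facts ↥(commutator ↥G)) facts
  simpa using h

end CfsgLib.KnownC.TitsTwoTrans
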