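import Mathlib

/-!
# A group of the order of the Tits group with one kind of elements of order 3 and 5 has no doubly
transitive action
-/

set_option autoImplicit false
set_option linter.unusedSectionVars false

universe u v

open MulAction

namespace CfsgLib.KnownC.TitsTwoTrans

/-- A subgroup of prime power order all of whose non-trivial elements generate conjugate subgroups. -/
def Uniform (G : Type u) [Group G] (p n : ℕ) : Prop :=
  ∃ (P : Subgroup G) (r : G), r ≠ 1 ∧ r ∈ P ∧ Nat.card P = n ∧
    ∀ y ∈ P, y ≠ 1 → orderOf y = p ∧ ∃ q : G, q * y * q⁻¹ ∈ Subgroup.zpowers r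

/-- The facts used. -/
structure Facts (G : Type u) [Group G] : Prop where
  card : Nat.card G = 17971200
  three : Uniform G 3 27
  five : Uniform G 5 25

variable {G : Type u} [Group G] [Finite G] {Ω : Type v} [Fintype Ω] [MulAction G Ω]

theorem fixed_conj (q y : G) :
    Nat.card (fixedBy Ω (q * y * q⁻¹)) = Nat.card (fixedBy Ω y) :=
  Nat.card_congr
    { toFun := fun w => ⟨q⁻¹ • w.1, by
        have h : (q * y * q⁻¹) • w.1 = w.1 := w.2
        show y • q⁻¹ • w.1 = q⁻¹ • w.1
        conv_rhs => rw [← h]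
        simp [mul_smul]⟩
      invFun := fun w => ⟨q • w.1, by
        show (q * y * q⁻¹) • q • w.1 = q • w.1
        have h : y • w.1 = w.1 := w.2
        simp [mul_smul, h]⟩
      left_inv := fun w => Subtype.ext (by simp)
      right_inv := fun w => Subtype.ext (by simp) }

theorem fixed_of_mem {r y : G} (h : y ∈ Subgroup.zpowers r) (w : Ω) (hw : r • w = w) : y • w = w := by
  have : Subgroup.zpowers r ≤ stabilizer G w := (Subgroup.zpowers_le).2 hw
  exact this h

theorem fixed_const {p n : ℕ} (hp : p.Prime) {P : Subgroup G} {r : G} (hr : r ≠ 1) (hrP : r ∈ P)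
    (hP : ∀ y ∈ P, y ≠ 1 → orderOf y = p ∧ ∃ q : G, q * y * q⁻¹ ∈ Subgroup.zpowers r)
    (_hn : Nat.card P = n) {y : G} (hy : y ∈ P) (hy1 : y ≠ 1) :
    Nat.card (fixedBy Ω y) = Nat.card (fixedBy Ω r) := by
  obtain ⟨ho, q, hq⟩ := hP y hy hy1
  rw [← fixed_conj q y]
  have hr' : r ∈ Subgroup.zpowers (q * y * q⁻¹) := by
    have hle : Subgroup.zpowers (q * y * q⁻¹) ≤ Subgroup.zpowers r := Subgroup.zpowers_le.2 hq
    have he : Subgroup.zpowers (q * y * q⁻¹) = Subgroup.zpowers r := by
      refine Subgroup.eq_of_le_of_card_ge hle ?_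
      rw [Nat.card_zpowers, Nat.card_zpowers,
        show orderOf (q * y * q⁻¹) = orderOf y from MulEquiv.orderOf_eq (MulAut.conj q) y, ho, (hP r hrP hr).1]
    exact he ▸ Subgroup.mem_zpowers r
  refine Nat.card_congr (Equiv.subtypeEquivRight fun w => ⟨fun h => fixed_of_mem hr' w h, fun h => fixed_of_mem hq w h⟩)

/-- The orbit count of a uniform subgroup. -/
theorem uniform_count {p n : ℕ} (hp : p.Prime) (hU : Uniform G p n) [FaithfulSMul G Ω] :
    ∃ (P : Subgroup G) (r : G), r ≠ 1 ∧ r ∈ P ∧ Nat.card P = n ∧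
      n ∣ Fintype.card Ω + (n - 1) * Nat.card (fixedBy Ω r) ∧
      Nat.card (fixedBy Ω r) < Fintype.card Ω ∧
      ∀ y ∈ P, y ≠ 1 → Nat.card (fixedBy Ω y) = Nat.card (fixedBy Ω r) := by
  classical
  obtain ⟨P, r, hr, hrP, hn, hP⟩ := hU
  have hc : ∀ y ∈ P, y ≠ 1 → Nat.card (fixedBy Ω y) = Nat.card (fixedBy Ω r) := fun y hy h1 =>
    fixed_const hp hr hrP hP hn hy h1
  refine ⟨P, r, hr, hrP, hn, ?_, ?_, hc⟩
  · letI : Fintype P := Fintype.ofFinite P
    have h := MulAction.sum_card_fixedBy_eq_card_orbits_mul_card_group P Ω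
    simp only [Fintype.card_eq_nat_card] at h
    rw [hn] at h
    have h2 : ∀ y : P, Nat.card (fixedBy Ω y) =
        if y = 1 then Fintype.card Ω else Nat.card (fixedBy Ω r) := by
      intro y
      split_ifs with e
      · subst e
        rw [← Nat.card_eq_fintype_card]
        exact Nat.card_congr (Equiv.subtypeUnivEquiv fun w => one_smul _ w)
      · exact hc y y.2 fun e' => e (Subtype.ext e')
    rw [Finset.sum_congr rfl fun y _ => h2 y, Finset.sum_ite, Finset.sum_const, Finset.sum_const,
      Finset.filter_eq', if_pos (Finset.mem_univ _), Finset.card_singleton, one_smul,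
      Finset.filter_ne', Finset.card_erase_of_mem (Finset.mem_univ _), Finset.card_univ,
      ← Nat.card_eq_fintype_card (α := P), hn, smul_eq_mul] at h
    exact ⟨_, h.trans (mul_comm _ _)⟩
  · rw [← Nat.card_eq_fintype_card (α := Ω)]
    refine lt_of_le_of_ne (Nat.card_le_card_of_injective _ Subtype.coe_injective) fun e => hr ?_
    refine FaithfulSMul.eq_of_smul_eq_smul (α := Ω) fun w => ?_
    have hb := (Nat.bijective_iff_injective_and_card (Subtype.val : fixedBy Ω r → Ω)).2
      ⟨Subtype.coe_injective, e⟩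
    obtain ⟨x, rfl⟩ := hb.2 w
    rw [one_smul]
    exact x.2

/-- If no point is fixed by all of `P`, the points are few. -/
theorem sum_stab_le {P : Subgroup G} {r : G} {k : ℕ}
    (hc : ∀ y ∈ P, y ≠ 1 → Nat.card (fixedBy Ω y) = Nat.card (fixedBy Ω r))
    (hk : ∀ w : Ω, Nat.card (stabilizer P w) ≤ k) :
    Fintype.card Ω + (Nat.card P - 1) * Nat.card (fixedBy Ω r) ≤ Fintype.card Ω * k := by
  classical
  letI : Fintype P := Fintype.ofFinite P
  have hsum : ∑ y : P, Nat.card (fixedBy Ω y) = ∑ w : Ω, Nat.card (stabilizer P w) := by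
    rw [← Nat.card_sigma, ← Nat.card_sigma]
    exact Nat.card_congr
      { toFun := fun a => ⟨a.2.1, ⟨a.1, a.2.2⟩⟩
        invFun := fun a => ⟨a.2.1, ⟨a.1, a.2.2⟩⟩
        left_inv := fun _ => rfl
        right_inv := fun _ => rfl }
  have hle : ∑ y : P, Nat.card (fixedBy Ω y) ≤ Fintype.card Ω * k := by
    rw [hsum, ← Finset.card_univ, ← smul_eq_mul, ← Finset.sum_const]
    exact Finset.sum_le_sum fun w _ => hk w
  have hc' : ∀ y ∈ (Finset.univ : Finset P).erase 1, Nat.card (fixedBy Ω y) = Nat.card (fixedBy Ω r) :=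
    fun y hy => hc (y : G) y.2 fun e => (Finset.ne_of_mem_erase hy) (Subtype.ext e)
  rw [← Finset.add_sum_erase _ _ (Finset.mem_univ (1 : P)), Finset.sum_congr rfl hc', Finset.sum_const,
    Finset.card_erase_of_mem (Finset.mem_univ _), Finset.card_univ, smul_eq_mul] at hle
  have h1 : Nat.card (fixedBy Ω (1 : P)) = Fintype.card Ω := by
    rw [← Nat.card_eq_fintype_card]
    exact Nat.card_congr (Equiv.subtypeUnivEquiv fun w => one_smul _ w)
  rw [h1, ← Nat.card_eq_fintype_card (α := P)] at hle
  exact hle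

variable [FaithfulSMul G Ω]

/-- Degree and order. -/
theorem degree_cases (hG : Facts G) (hΩ : 3 ≤ Fintype.card Ω) (h2 : IsMultiplyPretransitive G Ω 2) :
    Fintype.card Ω ∈ [3, 4, 5, 6, 9, 10, 13, 16, 25, 26, 27, 40, 65] := by
  classical
  set n := Fintype.card Ω with hn
  obtain ⟨a, b, hab⟩ := Fintype.exists_pair_of_one_lt_card (by omega : 1 < n)
  have hs : ({a, b} : Set Ω).ncard = 2 := Set.ncard_pair hab
  have h := IsMultiplyPretransitive.index_of_fixingSubgroup_eq (s := ({a, b} : Set Ω)) (by rw [hs]; exact h2)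
  rw [hs, Nat.card_eq_fintype_card, Nat.factorial_two, Nat.choose_two_right,
    Nat.div_mul_cancel (Nat.even_mul_pred_self n).two_dvd] at h
  have hd : n * (n - 1) ∣ 17971200 := by
    rw [← hG.card, ← h]
    exact Subgroup.index_dvd_card _
  have hle : n < 4241 := by
    by_contra hge
    have h1 := Nat.le_of_dvd (by norm_num) hd
    have : 4241 * 4240 ≤ n * (n - 1) := Nat.mul_le_mul (not_lt.1 hge) (by omega)
    omega
  have key : ((List.range 4241).all fun m => decide (m < 3) || decide (17971200 % (m * (m - 1)) ≠ 0) ||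
      decide (m ∈ [3, 4, 5, 6, 9, 10, 13, 16, 25, 26, 27, 40, 65])) = true := by decide +kernel
  have := List.all_eq_true.1 key n (List.mem_range.2 hle)
  simp only [Bool.or_eq_true, decide_eq_true_eq, Nat.mod_eq_zero_of_dvd hd, ne_eq,
    not_true_eq_false, or_false] at this
  exact this.resolve_left (by omega)

theorem card_dvd_perm (hG : Facts G) : 17971200 ∣ (Fintype.card Ω).factorial := by
  classical
  rw [← hG.card, ← Fintype.card_perm, ← Nat.card_eq_fintype_card]
  exact Subgroup.card_dvd_of_injective (MulAction.toPermHom G Ω)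
    (fun _ _ e => FaithfulSMul.eq_of_smul_eq_smul fun w => Equiv.Perm.congr_fun e w)

theorem case_middle (hG : Facts G) (h2 : IsMultiplyPretransitive G Ω 2)
    (hn : Fintype.card Ω = 16 ∨ Fintype.card Ω = 25) : False := by
  classical
  haveI : Fact (Nat.Prime 13) := ⟨by norm_num⟩
  obtain ⟨x, hx⟩ := exists_prime_orderOf_dvd_card' 13 (by rw [hG.card]; norm_num)
  set f := MulAction.toPermHom G Ω with hf
  have hinj : Function.Injective f := fun _ _ e =>
    FaithfulSMul.eq_of_smul_eq_smul fun w => Equiv.Perm.congr_fun e w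
  have ho : orderOf (f x) = 13 := (orderOf_injective f hinj x).trans hx
  have hcyc : (f x).IsCycle :=
    Equiv.Perm.isCycle_of_prime_order' (by rw [ho]; norm_num)
      (by rw [ho]; rcases hn with h | h <;> omega)
  have hp2 : IsPreprimitive G Ω := isPreprimitive_of_is_two_pretransitive h2
  have hp : IsPreprimitive f.range Ω :=
    IsPreprimitive.of_surjective
      (φ := f.rangeRestrict) (f := (⟨id, fun _ _ => rfl⟩ : Ω →ₑ[f.rangeRestrict] Ω)) Function.surjective_id
  -- Jordan: the group is triply transitive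
  have hsc : (f x).support.card = 13 := hcyc.orderOf.symm.trans ho
  have hmp : IsMultiplyPreprimitive f.range Ω (Fintype.card Ω - 13 + 1) := by
    obtain ⟨m, hm⟩ : ∃ m, Fintype.card Ω - 13 = m + 1 := ⟨Fintype.card Ω - 14, by omega⟩
    rw [show Fintype.card Ω - 13 + 1 = m + 2 by omega]
    refine hp.isMultiplyPreprimitive (s := ((f x).support : Set Ω)ᶜ) ?_ ?_ ?_
    · rw [← Finset.coe_compl, Set.ncard_coe_finset, Finset.card_compl, hsc, hm]
    · rw [Nat.card_eq_fintype_card]; omega
    · have := Equiv.Perm.isPretransitive_of_isCycle_mem hcyc (show f x ∈ f.range from ⟨x, rfl⟩)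
      apply IsPreprimitive.of_prime_card
      convert (show Nat.Prime 13 by norm_num) using 1
      rw [Nat.card_eq_fintype_card, Fintype.card_subtype, ← hsc]
      congr 1
      ext z
      simp [SubMulAction.mem_ofFixingSubgroup_iff]
  have h3 : IsMultiplyPretransitive f.range Ω 3 := by
    have := hmp.isMultiplyPretransitive
    refine isMultiplyPretransitive_of_le' (n := Fintype.card Ω - 13 + 1) (by omega) ?_
    rw [ENat.card_eq_coe_natCard, Nat.card_eq_fintype_card]
    exact_mod_cast (by omega : Fintype.card Ω - 13 + 1 ≤ Fintype.card Ω)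
  obtain ⟨s, -, hs⟩ := Finset.exists_subset_card_eq (s := (Finset.univ : Finset Ω)) (n := 3)
    (by rw [Finset.card_univ]; omega)
  have hs' : (s : Set Ω).ncard = 3 := by rw [Set.ncard_coe_finset, hs]
  have hi := IsMultiplyPretransitive.index_of_fixingSubgroup_eq (G := f.range) (s := (s : Set Ω))
    (by rw [hs']; exact h3)
  rw [hs', Nat.card_eq_fintype_card] at hi
  have hd2 : Nat.card f.range = 17971200 := by
    rw [← hG.card]
    exact (Nat.card_congr (MonoidHom.ofInjective hinj).toEquiv).symm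
  have hdvd := Subgroup.index_dvd_card (fixingSubgroup f.range (s : Set Ω))
  rw [hi, hd2] at hdvd
  rcases hn with h | h <;> rw [h] at hdvd <;> norm_num [Nat.choose, Nat.factorial] at hdvd

theorem stab_card (hG : Facts G) (h2 : IsMultiplyPretransitive G Ω 2) (w : Ω) :
    Fintype.card Ω * Nat.card (stabilizer G w) = 17971200 := by
  haveI := h2
  haveI : IsPretransitive G Ω := isPretransitive_of_is_two_pretransitive
  rw [← hG.card, ← (stabilizer G w).index_mul_card, index_stabilizer_of_transitive,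
    Nat.card_eq_fintype_card (α := Ω)]

theorem case_26 (hG : Facts G) (hn : Fintype.card Ω = 26) : False := by
  obtain ⟨P, r, -, -, -, hd, hlt, -⟩ := uniform_count (Ω := Ω) (by norm_num : Nat.Prime 3) hG.three
  rw [hn] at hd hlt
  generalize Nat.card (fixedBy Ω r) = f at hd hlt
  obtain ⟨c, hc⟩ := hd
  omega

theorem case_40_65 (hG : Facts G) (h2 : IsMultiplyPretransitive G Ω 2)
    (hn : Fintype.card Ω = 40 ∨ Fintype.card Ω = 65) : False := by
  classical
  obtain ⟨P, r, -, -, hP, hd, hlt, hc⟩ := uniform_count (Ω := Ω) (by norm_num : Nat.Prime 5) hG.five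
  have hk : ∀ w : Ω, Nat.card (stabilizer P w) ≤ 5 := by
    intro w
    have h1 : Nat.card (stabilizer P w) ∣ 25 := hP ▸ Subgroup.card_subgroup_dvd_card _
    have h2' : Nat.card (stabilizer P w) ∣ Nat.card (stabilizer G w) := by
      have e : (stabilizer P w).map P.subtype ≤ stabilizer G w := by
        rintro _ ⟨y, hy, rfl⟩; exact hy
      rw [Nat.card_congr ((stabilizer P w).equivMapOfInjective P.subtype P.subtype_injective).toEquiv]
      exact Subgroup.card_dvd_of_le e
    obtain ⟨i, hi, hi'⟩ := (Nat.dvd_prime_pow (by norm_num : Nat.Prime 5)).1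
      (show Nat.card (stabilizer P w) ∣ 5 ^ 2 by simpa using h1)
    interval_cases i
    · omega
    · omega
    · exfalso
      have := stab_card hG h2 w
      rw [hi'] at h2'
      obtain ⟨c, hcc⟩ := h2'
      rcases hn with h | h <;> rw [h, hcc] at this <;> omega
  have hb := sum_stab_le hc hk
  rw [hP] at hb
  generalize Nat.card (fixedBy Ω r) = f at hd hlt hb
  obtain ⟨c, hc'⟩ := hd
  rcases hn with h | h <;> rw [h] at hc' hlt hb <;> omega

theorem case_27 (hG : Facts G) (h2 : IsMultiplyPretransitive G Ω 2) (hn : Fintype.card Ω = 27) :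
    False := by
  classical
  haveI : Fact (Nat.Prime 13) := ⟨by norm_num⟩
  haveI : Fact (Nat.Prime 2) := ⟨Nat.prime_two⟩
  obtain ⟨w⟩ : Nonempty Ω := Fintype.card_pos_iff.1 (by omega)
  set H := stabilizer G w with hH
  have hc : Nat.card H = 665600 := by
    have := stab_card hG h2 w
    rw [hn] at this
    exact Nat.eq_of_mul_eq_mul_left (by norm_num : 0 < 27) (this.trans (by norm_num))
  obtain ⟨x, hx⟩ := exists_prime_orderOf_dvd_card' (G := H) 13 (by rw [hc]; norm_num)
  -- `x` fixes only `w`
  have hfix : ∀ u : Ω, x • u = u → u = w := by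
    intro u hu
    by_contra hne
    have hs : ({w, u} : Set Ω).ncard = 2 := Set.ncard_pair (Ne.symm hne)
    have h := IsMultiplyPretransitive.index_of_fixingSubgroup_eq (G := G) (s := ({w, u} : Set Ω))
      (by rw [hs]; exact h2)
    rw [hs, Nat.card_eq_fintype_card, hn] at h
    have hmem : (x : G) ∈ fixingSubgroup G ({w, u} : Set Ω) := by
      rw [mem_fixingSubgroup_iff]
      rintro y (rfl | rfl)
      · exact x.2
      · exact hu
    have h13 : 13 ∣ Nat.card (fixingSubgroup G ({w, u} : Set Ω)) := by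
      have h1 := orderOf_dvd_natCard (⟨(x : G), hmem⟩ : fixingSubgroup G ({w, u} : Set Ω))
      rwa [← orderOf_injective (fixingSubgroup G ({w, u} : Set Ω)).subtype Subtype.coe_injective,
        Subgroup.subtype_apply, show ((⟨(x : G), hmem⟩ : fixingSubgroup G ({w, u} : Set Ω)) : G) =
          H.subtype x from rfl, orderOf_injective H.subtype Subtype.coe_injective, hx] at h1
    have hm := (fixingSubgroup G ({w, u} : Set Ω)).index_mul_card
    rw [hG.card, h] at hm
    norm_num [Nat.choose] at hm
    obtain ⟨cc, hcc⟩ := h13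
    rw [hcc] at hm
    omega
  let O : Ω → Finset Ω := fun u => (MulAction.orbit (Subgroup.zpowers x) u).toFinset
  have hmem : ∀ u v, v ∈ O u ↔ ∃ k : ℤ, x ^ k • u = v := by
    intro u v
    simp only [O, Set.mem_toFinset]
    exact ⟨fun ⟨⟨z, k, hk⟩, h⟩ => ⟨k, by rw [show x ^ k = z from hk]; exact h⟩,
      fun ⟨k, hk⟩ => ⟨⟨x ^ k, k, rfl⟩, hk⟩⟩
  have hcardO : ∀ u, u ≠ w → (O u).card = 13 := by
    intro u hu
    have e : (O u).card = (MulAction.orbit (Subgroup.zpowers x) u).ncard :=
      (Set.ncard_eq_toFinset_card' _).symm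
    rw [e, ← MulAction.index_stabilizer]
    have hd := (stabilizer (Subgroup.zpowers x) u).index_mul_card
    rw [Nat.card_zpowers, hx] at hd
    rcases (Nat.dvd_prime (by norm_num : Nat.Prime 13)).1 ⟨_, hd.symm⟩ with h | h
    · exfalso
      have ht : stabilizer (Subgroup.zpowers x) u = ⊤ := Subgroup.index_eq_one.1 h
      exact hu (hfix u (ht ▸ Subgroup.mem_top (⟨x, Subgroup.mem_zpowers x⟩ : Subgroup.zpowers x) :
        (⟨x, Subgroup.mem_zpowers x⟩ : Subgroup.zpowers x) ∈ stabilizer (Subgroup.zpowers x) u))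
    · exact h
  have hdisj : ∀ u v, O u ≠ O v → Disjoint (O u) (O v) := by
    intro u v hne
    rw [Finset.disjoint_left]
    intro a ha hb
    apply hne
    simp only [O, Set.mem_toFinset] at ha hb
    simp only [O]
    rw [Set.toFinset_inj, ← MulAction.orbit_eq_iff.2 ha, MulAction.orbit_eq_iff.2 hb]
  have hthree : ∀ a b c, a ≠ w → b ≠ w → c ≠ w → O a ≠ O b → O a ≠ O c → O b ≠ O c → False := by
    intro a b c ha hb hcw h1 h2' h3
    have := Finset.card_le_univ (O a ∪ O b ∪ O c)
    rw [Finset.card_union_of_disjoint (Finset.disjoint_union_left.2 ⟨hdisj _ _ h2', hdisj _ _ h3⟩),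
      Finset.card_union_of_disjoint (hdisj _ _ h1), hcardO a ha, hcardO b hb, hcardO c hcw, hn] at this
    omega
  set C : Subgroup H := Subgroup.centralizer ({x} : Set H) with hCdef
  have hCx : ∀ c ∈ C, ∀ k : ℤ, c * x ^ k = x ^ k * c := fun c hcc k =>
    ((show Commute c x from Subgroup.mem_centralizer_singleton_iff.1 hcc).zpow_right k).eq
  have hmap : ∀ c ∈ C, ∀ u v, v ∈ O u → c • v ∈ O (c • u) := by
    intro c hcc u v hv
    obtain ⟨k, rfl⟩ := (hmem u v).1 hv
    exact (hmem _ _).2 ⟨k, by rw [← mul_smul, ← hCx c hcc k, mul_smul]⟩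
  have hOeq : ∀ u v, v ∈ O u → O v = O u := by
    intro u v hv
    simp only [O, Set.mem_toFinset] at hv
    simp only [O, Set.toFinset_inj]
    exact MulAction.orbit_eq_iff.2 hv
  have hself : ∀ u, u ∈ O u := fun u => (hmem u u).2 ⟨0, by simp⟩
  have hmapO : ∀ c ∈ C, ∀ u v, O u = O v → O (c • u) = O (c • v) := fun c hcc u v h =>
    hOeq _ _ (hmap c hcc v u (h ▸ hself u))
  have hne : ∀ (c : H) (u : Ω), u ≠ w → c • u ≠ w := by
    intro c u hu e
    have hcw : c • w = w := c.2
    exact hu (MulAction.injective c (e.trans hcw.symm))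
  have hkill : ∀ c ∈ C, (∀ u, u ≠ w → O (c • u) = O u) → c ^ 13 = 1 := by
    intro c hcc hO
    refine FaithfulSMul.eq_of_smul_eq_smul (α := Ω) fun u => ?_
    rw [one_smul]
    by_cases hu : u = w
    · subst hu; exact (c ^ 13).2
    obtain ⟨k, hk⟩ := (hmem u _).1 (hO u hu ▸ hself (c • u))
    have hpow : ∀ m : ℕ, c ^ m • u = (x ^ k) ^ m • u := by
      intro m
      induction m with
      | zero => simp
      | succ m ih =>
        rw [pow_succ c m, mul_smul, ← hk, ← mul_smul, hCx (c ^ m) (pow_mem hcc m) k, mul_smul, ih,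
          ← mul_smul, ← pow_succ']
    rw [hpow 13, ← zpow_natCast, ← zpow_mul, mul_comm, zpow_mul, zpow_natCast, ← hx,
      pow_orderOf_eq_one, one_zpow, one_smul]
  obtain ⟨u₀, hu₀⟩ : ∃ u₀, u₀ ≠ w := Fintype.exists_ne_of_one_lt_card (by omega) w
  have hclose : ∀ c ∈ C, O (c • u₀) = O u₀ → c ^ 13 = 1 := by
    intro c hcc h0
    refine hkill c hcc fun u hu => ?_
    by_contra hne'
    by_cases he : O u = O u₀
    · exact hne' ((hmapO c hcc u u₀ he).trans (h0.trans he.symm))
    refine hthree u₀ u (c • u) hu₀ hu (hne c u hu) (Ne.symm he) (fun h => ?_) (Ne.symm hne')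
    have h' := hmapO c⁻¹ (inv_mem hcc) _ _ (h0.trans h)
    rw [inv_smul_smul, inv_smul_smul] at h'
    exact he h'.symm
  have h26 : ∀ c ∈ C, c ^ 26 = 1 := by
    intro c hcc
    rw [show 26 = 2 * 13 from rfl, pow_mul]
    refine hclose _ (pow_mem hcc 2) ?_
    by_contra h2'
    rw [pow_two, mul_smul] at h2'
    have h1 : O (c • u₀) ≠ O u₀ := fun h => h2' ((hmapO c hcc _ _ h).trans h)
    refine hthree u₀ (c • u₀) (c • c • u₀) hu₀ (hne c _ hu₀) (hne c _ (hne c _ hu₀)) (Ne.symm h1)
      (Ne.symm h2') fun h => ?_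
    have h' := hmapO c⁻¹ (inv_mem hcc) _ _ h
    rw [inv_smul_smul, inv_smul_smul] at h'
    exact h1 h'.symm
  have hC5 : ¬ 5 ∣ Nat.card C := fun h => by
    haveI : Fact (Nat.Prime 5) := ⟨by norm_num⟩
    obtain ⟨y, hy⟩ := exists_prime_orderOf_dvd_card' (G := C) 5 h
    have := orderOf_dvd_of_pow_eq_one (h26 y y.2)
    rw [show (y : H) = C.subtype y from rfl, orderOf_injective C.subtype Subtype.coe_injective, hy] at this
    norm_num at this
  have hC4 : ¬ 4 ∣ Nat.card C := fun h => by
    obtain ⟨E, hE⟩ := Sylow.exists_subgroup_card_pow_prime (G := C) 2 (n := 2) (by simpa using h)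
    have hno : ∀ a : E, O ((((a : C) : H)) • u₀) = O u₀ → a = 1 := by
      intro a ha
      have h1 := orderOf_dvd_of_pow_eq_one (hclose _ (a : C).2 ha)
      have h2' : orderOf a ∣ 4 := by have := orderOf_dvd_natCard a; simpa [hE] using this
      rw [show ((a : C) : H) = (C.subtype.comp E.subtype) a from rfl,
        orderOf_injective (C.subtype.comp E.subtype)
          (Subtype.val_injective.comp Subtype.val_injective : Function.Injective (C.subtype.comp E.subtype))] at h1
      have : orderOf a ∣ 1 := by simpa using Nat.dvd_gcd h2' h1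
      exact orderOf_eq_one_iff.1 (Nat.dvd_one.1 this)
    haveI : Fintype E := Fintype.ofFinite E
    obtain ⟨a, b, ha, hb, hab⟩ : ∃ a b : E, a ≠ 1 ∧ b ≠ 1 ∧ a ≠ b := by
      have : 1 < ((Finset.univ : Finset E).erase 1).card := by
        rw [Finset.card_erase_of_mem (Finset.mem_univ _), Finset.card_univ,
          ← Nat.card_eq_fintype_card, hE]
        norm_num
      obtain ⟨a, b, ha, hb, hab⟩ := Finset.one_lt_card_iff.1 this
      exact ⟨a, b, Finset.ne_of_mem_erase ha, Finset.ne_of_mem_erase hb, hab⟩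
    refine hthree u₀ (((a : C) : H) • u₀) (((b : C) : H) • u₀) hu₀ (hne _ _ hu₀) (hne _ _ hu₀)
      (fun h => ha (hno a h.symm)) (fun h => hb (hno b h.symm)) fun h => hab ?_
    have h' := hmapO _ (inv_mem (a : C).2) _ _ h
    rw [inv_smul_smul, ← mul_smul] at h'
    exact inv_mul_eq_one.1 (hno (a⁻¹ * b) h'.symm)
  have hmul : (665600 : ℕ).factorization 13 = 1 := by
    rw [show (665600 : ℕ) = 13 * 51200 by norm_num, Nat.factorization_mul (by norm_num) (by norm_num),
      Finsupp.add_apply, Nat.Prime.factorization_self (by norm_num),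
      Nat.factorization_eq_zero_of_not_dvd (by norm_num)]
  let S : Sylow 13 H := Sylow.ofCard (Subgroup.zpowers x) (by rw [Nat.card_zpowers, hx, hc, hmul, pow_one])
  set N : Subgroup H := Subgroup.normalizer ((S : Subgroup H) : Set H) with hNdef
  have hi := Sylow.card_eq_index_normalizer S
  have hmod := card_sylow_modEq_one 13 H
  rw [hi] at hmod
  have hSN : (S : Subgroup H) ≤ N := Subgroup.le_normalizer
  -- `[N : C]` divides `12`
  let f : N →* MulAut (S : Subgroup H) := Subgroup.normalizerMonoidHom (S : Subgroup H)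
  have hker : Nat.card f.ker ∣ Nat.card C := by
    have hle : f.ker.map N.subtype ≤ C := by
      rintro _ ⟨n, hn', rfl⟩
      rw [Subgroup.mem_centralizer_singleton_iff]
      rw [SetLike.mem_coe, MonoidHom.mem_ker] at hn'
      have h := congrArg (fun φ : MulAut (S : Subgroup H) =>
        ((φ ⟨x, Subgroup.mem_zpowers x⟩ : (S : Subgroup H)) : H)) hn'
      simp only [MulAut.one_apply] at h
      exact mul_inv_eq_iff_eq_mul.1 h
    rw [Nat.card_congr (f.ker.equivMapOfInjective N.subtype N.subtype_injective).toEquiv]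
    exact Subgroup.card_dvd_of_le hle
  have hidx : f.ker.index ∣ 12 := by
    rw [Subgroup.index_ker]
    refine (Subgroup.card_subgroup_dvd_card f.range).trans ?_
    haveI : IsCyclic (S : Subgroup H) := (inferInstance : IsCyclic (Subgroup.zpowers x))
    have hS : Nat.card (S : Subgroup H) = 13 := by
      rw [show (S : Subgroup H) = Subgroup.zpowers x from rfl, Nat.card_zpowers, hx]
    rw [IsCyclic.card_mulAut, hS, Nat.totient_prime (by norm_num)]
  have hN := f.ker.index_mul_card
  have hCdvd : Nat.card C ∣ 26 := by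
    have hd : Nat.card C ∣ 665600 := hc ▸ Subgroup.card_subgroup_dvd_card C
    have hcop : (Nat.card C).Coprime 25 :=
      (((Nat.Prime.coprime_iff_not_dvd (by norm_num : Nat.Prime 5)).2 hC5).symm).pow_right 2
    have hd' : Nat.card C ∣ 26624 := hcop.dvd_of_dvd_mul_right (by simpa using hd)
    have hg : (Nat.card C).gcd 2048 ∣ 2 := by
      obtain ⟨i, -, he⟩ := (Nat.dvd_prime_pow Nat.prime_two).1
        (show (Nat.card C).gcd 2048 ∣ 2 ^ 11 by simpa using Nat.gcd_dvd_right _ _)
      rw [he]
      rcases i with _ | _ | i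
      · norm_num
      · norm_num
      · exact absurd ((show (4 : ℕ) ∣ 2 ^ (i + 1 + 1) from ⟨2 ^ i, by ring⟩).trans
          (he ▸ Nat.gcd_dvd_left _ _)) hC4
    exact (Nat.dvd_gcd_mul_gcd_iff_dvd_mul.2 (show Nat.card C ∣ 2048 * 13 by simpa using hd')).trans
      (by simpa using Nat.mul_dvd_mul hg (Nat.gcd_dvd_right (Nat.card C) 13))
  have hNd : Nat.card N ∣ 312 := by
    rw [← hN]
    exact (Nat.mul_dvd_mul hidx (hker.trans hCdvd)).trans (by norm_num)
  have hN13 : 13 ∣ Nat.card N := by
    have := Subgroup.card_dvd_of_le hSN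
    rwa [show (S : Subgroup H) = Subgroup.zpowers x from rfl, Nat.card_zpowers, hx] at this
  have hNH := N.index_mul_card
  rw [hc] at hNH
  obtain ⟨e, he⟩ := hN13
  rw [he] at hNd hNH
  have he24 : e ∣ 24 := by
    obtain ⟨c, hcc⟩ := hNd
    exact ⟨c, by nlinarith⟩
  have hle : e ≤ 24 := Nat.le_of_dvd (by norm_num) he24
  change N.index % 13 = 1 % 13 at hmod
  have h51 : N.index * e = 51200 := by nlinarith
  interval_cases e <;> norm_num at he24 <;> omega

/-- No doubly transitive action on more than two points. -/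
theorem not_two_transitive (hG : Facts G) (hΩ : 3 ≤ Fintype.card Ω) :
    ¬ IsMultiplyPretransitive G Ω 2 := by
  intro h2
  have hmem := degree_cases hG hΩ h2
  have hd := card_dvd_perm (Ω := Ω) hG
  have small : Fintype.card Ω ≤ 13 → False := by
    intro hle
    have hd13 : 17971200 ∣ (13 : ℕ).factorial := hd.trans (Nat.factorial_dvd_factorial hle)
    norm_num [Nat.factorial] at hd13
  simp only [List.mem_cons, List.not_mem_nil, or_false] at hmem
  rcases hmem with h | h | h | h | h | h | h | h | h | h | h | h | h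
  iterate 7 exact small (by omega)
  · exact case_middle hG h2 (Or.inl h)
  · exact case_middle hG h2 (Or.inr h)
  · exact case_26 hG h
  · exact case_27 hG h2 h
  · exact case_40_65 hG h2 (Or.inl h)
  · exact case_40_65 hG h2 (Or.inr h)

end CfsgLib.KnownC.TitsTwoTrans
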